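import Groth.Prelude.Def_AlgGrp
import Groth.Agent.PicAVLib.Main
import Groth.Agent.PicAVLib.Kernel2
import Groth.Agent.PicAVLib.Lang
import Groth.Agent.PicAVLib.LineGen
import Groth.Agent.InvExt.Compl
import Groth.Agent.RegLocal.UFD
import Groth.Agent.ASp.GeomRedEt
import Groth.Agent.AVLib.AmpleCrit
import Groth.Agent.AVLib.Stab
import Groth.Agent.AVLib.GeomInt
import Groth.Agent.AbDualLib.Subvar
import Groth.Agent.MonoFibre.RigidityProper
import Groth.Agent.MonoFibre.Connected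
import Groth.Agent.GrpSchLib.Smooth

/-!
# Equivariant morphisms to an abelian variety acting faithfully
-/

set_option autoImplicit false
set_option backward.isDefEq.respectTransparency false
set_option linter.style.haveILetI false
set_option synthInstance.maxHeartbeats 400000
set_option maxHeartbeats 2000000

universe u

open CategoryTheory CategoryTheory.Limits MonoidalCategory CartesianMonoidalCategory MonObj AlgebraicGeometry
open TopologicalSpace
open Groth.Agent.PicLib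
open Groth.Agent.AVLib (trR trL comp_trR comp_trL)
open Groth.Agent.PoincareLib (phi phi_apply)

noncomputable section

namespace Groth.Agent.EquivMapLib

variable {K : Type u} [Field K] [IsAlgClosed K]

local notation "SK" => Spec (CommRingCat.of K)
local notation "pt" => (IsLocalRing.closedPoint K : Spec (CommRingCat.of K))

/-- A morphism from a proper integral scheme into an affine open is constant. -/
theorem eq_const_of_range_affine {Z X : Over SK} [IsProper Z.hom] [GeometricallyIntegral Z.hom]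
    (U : X.left.Opens) (hU : IsAffineOpen U) (f : Z ⟶ X) (hf : Set.range f.left ⊆ U)
    (z₀ : 𝟙_ (Over SK) ⟶ Z) : f = toUnit Z ≫ z₀ ≫ f := by
  haveI : IsAffine (U : Scheme.{u}) := hU
  have hr : Set.range f.left ⊆ Set.range U.ι := by rw [Scheme.Opens.range_ι]; exact hf
  let f₁ := IsOpenImmersion.lift U.ι f.left hr
  have h1 : f₁ ≫ U.ι = f.left := IsOpenImmersion.lift_fac _ _ _
  have hs : z₀.left ≫ (toUnit Z).left = 𝟙 _ := by
    rw [← Over.comp_left, toUnit_unique (z₀ ≫ toUnit Z) (𝟙 _)]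
    rfl
  have hb := MonoFibre.Rigidity.bijective_of_geometricallyIntegral z₀
  have hinj : Function.Injective z₀.left.appTop.hom := by
    intro p q h
    obtain ⟨a, ha⟩ := hb.2 p
    obtain ⟨b, hb'⟩ := hb.2 q
    have e : ((Scheme.ΓSpecIso (CommRingCat.of K)).inv ≫ Z.hom.appTop) ≫ z₀.left.appTop =
        (Scheme.ΓSpecIso (CommRingCat.of K)).inv := by
      rw [Category.assoc, ← Scheme.Hom.comp_appTop, Over.w z₀]
      show (Scheme.ΓSpecIso (CommRingCat.of K)).inv ≫ Scheme.Hom.appTop (𝟙 _) = _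
      rw [Scheme.Hom.id_appTop]
      exact Category.comp_id _
    have ea : z₀.left.appTop.hom p = (Scheme.ΓSpecIso (CommRingCat.of K)).inv.hom a := by
      rw [← ha]; exact congrArg (fun r => r.hom a) e
    have eb : z₀.left.appTop.hom q = (Scheme.ΓSpecIso (CommRingCat.of K)).inv.hom b := by
      rw [← hb']; exact congrArg (fun r => r.hom b) e
    have hinjS : Function.Injective (Scheme.ΓSpecIso (CommRingCat.of K)).inv.hom :=
      ((Scheme.ΓSpecIso (CommRingCat.of K)).symm.commRingCatIsoToRingEquiv).injective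
    rw [← ha, ← hb', hinjS (ea.symm.trans (h.trans eb))]
  have key : f₁ = (toUnit Z).left ≫ z₀.left ≫ f₁ := by
    apply ext_of_isAffine
    ext s
    apply hinj
    have e2 : ((toUnit Z).left ≫ z₀.left ≫ f₁).appTop ≫ z₀.left.appTop = f₁.appTop ≫ z₀.left.appTop := by
      rw [← Scheme.Hom.comp_appTop, ← Scheme.Hom.comp_appTop, ← Category.assoc, hs, Category.id_comp]
    exact (congrArg (fun r => r.hom s) e2).symm
  apply Over.OverMorphism.ext
  rw [Over.comp_left, Over.comp_left, ← h1, ← Category.assoc, ← Category.assoc, Category.assoc _ _ f₁, ← key]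

variable {A X : Over (Spec (CommRingCat.of K))} [GrpObj A] [IsProper A.hom] [GeometricallyIntegral A.hom]
  [Smooth X.hom] [IsSeparated X.hom] [QuasiCompact X.hom] [IsIntegral X.left]
  (act : AlgGrp.Action A X)

/-- The translate of a point. -/
def smulPt {T : Over SK} (g : T ⟶ A) (x : T ⟶ X) : T ⟶ X := lift g x ≫ act.act

theorem comp_smulPt {T T' : Over SK} (s : T' ⟶ T) (g : T ⟶ A) (x : T ⟶ X) :
    s ≫ smulPt act g x = smulPt act (s ≫ g) (s ≫ x) := by
  rw [smulPt, smulPt, ← Category.assoc, comp_lift]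

theorem one_smulPt {T : Over SK} (x : T ⟶ X) : smulPt act 1 x = x := by
  have h : lift (1 : T ⟶ A) x = lift (toUnit T) x ≫ (η[A] ▷ X) := by
    rw [lift_whiskerRight, ← Hom.one_def]
  rw [smulPt, h, Category.assoc, act.one_act, leftUnitor_hom, lift_snd]

theorem mul_smulPt {T : Over SK} (g h : T ⟶ A) (x : T ⟶ X) :
    smulPt act (g * h) x = smulPt act g (smulPt act h x) := by
  have e : lift (g * h) x = lift (lift g h) x ≫ (μ[A] ▷ X) := by
    rw [lift_whiskerRight, Hom.mul_def]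
  rw [smulPt, e, Category.assoc, act.mul_act, smulPt, smulPt, lift_lift_associator_hom_assoc,
    lift_whiskerLeft_assoc]

/-- The orbit map. -/
def orb (x : 𝟙_ (Over SK) ⟶ X) : A ⟶ X := smulPt act (𝟙 A) (toUnit A ≫ x)

theorem comp_orb {T : Over SK} (g : T ⟶ A) (x : 𝟙_ (Over SK) ⟶ X) :
    g ≫ orb act x = smulPt act g (toUnit T ≫ x) := by
  rw [orb, comp_smulPt, Category.comp_id, ← Category.assoc, toUnit_unique (g ≫ toUnit A) (toUnit T)]

theorem trR_orb (d : 𝟙_ (Over SK) ⟶ A) (x : 𝟙_ (Over SK) ⟶ X) :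
    orb act (smulPt act d x) = trR d ≫ orb act x := by
  rw [comp_orb, orb, comp_smulPt, trR, mul_smulPt]

variable (hfaith : ∀ g : 𝟙_ (Over (Spec (CommRingCat.of K))) ⟶ A,
  lift (toUnit X ≫ g) (𝟙 X) ≫ act.act = 𝟙 X → g = η[A])

include hfaith in
theorem eq_of_act_eq {g h : 𝟙_ (Over SK) ⟶ A}
    (e : smulPt act (toUnit X ≫ g) (𝟙 X) = smulPt act (toUnit X ≫ h) (𝟙 X)) : g = h := by
  have hη : η[A] = (1 : 𝟙_ (Over SK) ⟶ A) := by
    rw [Hom.one_def, toUnit_unique (toUnit _) (𝟙 _), Category.id_comp]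
  have h1 : smulPt act (toUnit X ≫ (h⁻¹ * g)) (𝟙 X) = 𝟙 X := by
    rw [MonObj.comp_mul, mul_smulPt, e, ← mul_smulPt, ← MonObj.comp_mul, inv_mul_cancel, MonObj.comp_one,
      one_smulPt]
  have h2 := hfaith _ h1
  rw [hη, inv_mul_eq_one] at h2
  exact h2.symm

include hfaith in
/-- A closed subset carried into an affine open by an orbit map has finitely many rational points. -/
theorem finite_of_orb_subset (x₀ : 𝟙_ (Over SK) ⟶ X) (U : X.left.Opens) (hU : IsAffineOpen U)
    {T : Set A.left} (hT : IsClosed T) (hTU : T ⊆ (orb act x₀).left ⁻¹' U) :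
    {d : 𝟙_ (Over SK) ⟶ A | d.left pt ∈ T}.Finite := by
  haveI : Subsingleton ↥SK := inferInstanceAs (Subsingleton (PrimeSpectrum K))
  haveI : IsLocallyNoetherian A.left := LocallyOfFiniteType.isLocallyNoetherian A.hom
  haveI : CompactSpace A.left := QuasiCompact.compactSpace_of_compactSpace A.hom
  haveI : IsNoetherian A.left := {}
  obtain ⟨S, hS, hSc, hSi, rfl⟩ := NoetherianSpace.exists_finite_set_isClosed_irreducible hT
  have hsub : {d : 𝟙_ (Over SK) ⟶ A | d.left pt ∈ ⋃₀ S} = ⋃ C ∈ S, {d : 𝟙_ (Over SK) ⟶ A | d.left pt ∈ C} := by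
    ext d
    simp only [Set.mem_setOf_eq, Set.mem_sUnion, Set.mem_iUnion]
    exact ⟨fun ⟨C, h, h'⟩ => ⟨C, h, h'⟩, fun ⟨C, h, h'⟩ => ⟨C, h, h'⟩⟩
  rw [hsub]
  refine hS.biUnion fun C hC => Set.Subsingleton.finite fun d₀ hd₀ d hd => ?_
  let D := Scheme.IdealSheafData.vanishingIdeal (⟨C, hSc C hC⟩ : Closeds A.left)
  haveI : IsIntegral D.subscheme := CurveLib.isIntegral_vanishingIdeal (hSc C hC) (hSi C hC)
  let Z : Over SK := Over.mk (D.subschemeι ≫ A.hom)
  haveI : IsIntegral Z.left := inferInstanceAs (IsIntegral D.subscheme)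
  haveI : IsProper Z.hom := inferInstanceAs (IsProper (D.subschemeι ≫ A.hom))
  haveI : GeometricallyIntegral Z.hom := AVLib.geometricallyIntegral_of_isIntegral Z.hom
  let j : Z ⟶ A := Over.homMk D.subschemeι rfl
  have hj : Set.range j.left = C := by
    show Set.range D.subschemeι = C
    rw [Scheme.IdealSheafData.range_subschemeι, Scheme.IdealSheafData.coe_support_vanishingIdeal]; rfl
  have hlift : ∀ d : 𝟙_ (Over SK) ⟶ A, d.left pt ∈ C → ∃ z : 𝟙_ (Over SK) ⟶ Z, z ≫ j = d := fun d hd => by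
    obtain ⟨z, hz⟩ := PicAVLib.exists_point_lift_of_mem j d (hj.symm ▸ hd)
    exact ⟨z, hz⟩
  obtain ⟨z₀, hz₀⟩ := hlift d₀ hd₀
  obtain ⟨z, hz⟩ := hlift d hd
  have hconst : j ≫ orb act x₀ = toUnit Z ≫ z₀ ≫ j ≫ orb act x₀ :=
    eq_const_of_range_affine U hU _ (by
      rintro _ ⟨w, rfl⟩
      rw [Over.comp_left, Scheme.Hom.comp_apply]
      exact hTU ⟨C, hC, hj ▸ ⟨w, rfl⟩⟩) z₀
  let F : Z ⊗ X ⟶ X := smulPt act (fst Z X ≫ j) (snd Z X)
  haveI : GeometricallyIntegral X.hom := AVLib.geometricallyIntegral_of_isIntegral X.hom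
  have hF : lift (𝟙 Z) (toUnit Z ≫ x₀) ≫ F = toUnit Z ≫ (z₀ ≫ j ≫ orb act x₀) := by
    show lift (𝟙 Z) (toUnit Z ≫ x₀) ≫ smulPt act _ _ = _
    rw [comp_smulPt, lift_fst_assoc, Category.id_comp, lift_snd, ← comp_orb, hconst]
    simp
  have hF' := MonoFibre.Rigidity.eq_const_of_ratPt F z₀ x₀ _ hF
  refine (eq_of_act_eq act hfaith ?_).symm
  have h1 := congrArg (lift (toUnit X ≫ z) (𝟙 X) ≫ ·) hF'
  simp only [F, lift_snd_assoc, Category.id_comp, comp_smulPt, lift_fst_assoc, lift_snd, Category.assoc, hz,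
    hz₀] at h1
  exact h1

include hfaith in
/-- The class of the complement of an affine open pulled back along an orbit map has finite stabiliser. -/
theorem exists_class (x₀ : 𝟙_ (Over SK) ⟶ X) : ∃ ℓ : Pic X.left,
    {d : 𝟙_ (Over SK) ⟶ A | pull (trR d).left (pull (orb act x₀).left ℓ) = pull (orb act x₀).left ℓ}.Finite := by
  haveI : Subsingleton ↥SK := inferInstanceAs (Subsingleton (PrimeSpectrum K))
  haveI : IsLocallyNoetherian X.left := LocallyOfFiniteType.isLocallyNoetherian X.hom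
  haveI : X.left.IsSeparated := ⟨by rw [← terminal.comp_from X.hom]; infer_instance⟩
  haveI : JacobsonSpace A.left := LocallyOfFiniteType.jacobsonSpace A.hom
  haveI := AVLib.isCommMonObj (A := A)
  obtain ⟨U, hU, hxU, -⟩ := exists_isAffineOpen_mem_and_subset (X := X.left) (x := x₀.left pt) (U := ⊤) trivial
  obtain ⟨D, hD, hDs⟩ := InvExt.exists_effCartier_compl U hU (U.2.dense ⟨_, hxU⟩) (fun V W hV hW => hV.inf hW)
    (fun x _ => by
      haveI := ASp.isRegularLocalRing_stalk_of_smooth_field X.hom x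
      exact ⟨inferInstance, RegLocal.ufd _⟩)
  obtain ⟨L, σ, hL, hgen, -⟩ := PicAVLib.exists_line_gen hD
  have hgU : CohB1.genLocus L σ = U := by
    rw [hgen]
    ext x
    show x ∉ (D.support : Set X.left) ↔ x ∈ (U : Set X.left)
    rw [hDs, Set.mem_compl_iff, not_not]
  let o := orb act x₀
  refine ⟨cls hL, ?_⟩
  have hL' := AmpleLib.isInvertible_pullback o.left hL
  have hg' : CohB1.genLocus _ (AmpleLib.pullS o.left σ) = o.left ⁻¹ᵁ U := by
    rw [AmpleLib.genLocus_pullS _ hL, hgU]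
  have h1 : (1 : 𝟙_ (Over SK) ⟶ A).left pt ∈ o.left ⁻¹ᵁ U := by
    show o.left ((1 : 𝟙_ (Over SK) ⟶ A).left pt) ∈ U
    rw [← Scheme.Hom.comp_apply, ← Over.comp_left, comp_orb, one_smulPt, toUnit_unique (toUnit _) (𝟙 _),
      Category.id_comp]
    exact hxU
  have hamp : CohB1.IsAmple ((Scheme.Modules.pullback o.left).obj L) := by
    refine AVLib.isAmple_of_effective hL' (AmpleLib.pullS o.left σ) (by rw [hg']; exact ⟨_, h1⟩) ?_
    rw [hg']
    let T : Set A.left := ⋂ b ∈ {b : 𝟙_ (Over SK) ⟶ A | b.left pt ∉ o.left ⁻¹ᵁ U},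
      ((trL b).left ⁻¹' ((o.left ⁻¹ᵁ U : A.left.Opens) : Set A.left)ᶜ ∩
        ((𝟙 A)⁻¹ ≫ trL b).left ⁻¹' ((o.left ⁻¹ᵁ U : A.left.Opens) : Set A.left)ᶜ)
    have hTc : IsClosed T := isClosed_biInter fun b _ =>
      ((o.left ⁻¹ᵁ U).2.isClosed_compl.preimage (trL b).left.continuous).inter
        ((o.left ⁻¹ᵁ U).2.isClosed_compl.preimage ((𝟙 A)⁻¹ ≫ trL b).left.continuous)
    have hTiff : ∀ d : 𝟙_ (Over SK) ⟶ A, d.left pt ∈ T ↔ ∀ b : 𝟙_ (Over SK) ⟶ A, b.left pt ∉ o.left ⁻¹ᵁ U →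
        (b * d).left pt ∉ o.left ⁻¹ᵁ U ∧ (b * d⁻¹).left pt ∉ o.left ⁻¹ᵁ U := fun d => by
      have e1 : ∀ b : 𝟙_ (Over SK) ⟶ A, (trL b).left (d.left pt) = (b * d).left pt := fun b => by
        rw [← Scheme.Hom.comp_apply, ← Over.comp_left, comp_trL, toUnit_unique (toUnit _) (𝟙 _), Category.id_comp]
      have e2 : ∀ b : 𝟙_ (Over SK) ⟶ A, ((𝟙 A)⁻¹ ≫ trL b).left (d.left pt) = (b * d⁻¹).left pt := fun b => by
        rw [← Scheme.Hom.comp_apply, ← Over.comp_left, ← Category.assoc, GrpObj.comp_inv, Category.comp_id,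
          comp_trL, toUnit_unique (toUnit _) (𝟙 _), Category.id_comp]
      simp only [T, Set.mem_iInter, Set.mem_inter_iff, Set.mem_preimage, Set.mem_compl_iff, SetLike.mem_coe,
        Set.mem_setOf_eq, e1, e2]
    have hTU : T ⊆ o.left ⁻¹' U := by
      by_contra hne
      obtain ⟨z, ⟨hzT, hzU⟩, hzc⟩ := nonempty_inter_closedPoints (Z := T \ o.left ⁻¹' U)
        (Set.diff_nonempty.mpr hne) (hTc.sdiff (U.2.preimage o.left.continuous)).isLocallyClosed
      obtain ⟨d, hd⟩ := AVLib.exists_ratPt hzc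
      rw [← hd] at hzT hzU
      have := ((hTiff d).1 hzT d hzU).2
      rw [mul_inv_cancel] at this
      exact this h1
    refine (finite_of_orb_subset act hfaith x₀ U hU hTc hTU).subset fun d hd => ?_
    refine (hTiff d).2 fun b hb => ⟨fun h => hb ((hd.1 b).2 h), fun h => hb ?_⟩
    have := (hd.1 _).1 h
    rwa [inv_mul_cancel_right] at this
  have := AVLib.finite_stab hamp
  rwa [← pull_cls _ hL] at this

include hfaith in
theorem exists_equivariant : ∃ (φ : X ⟶ A) (n : ℕ), 0 < n ∧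
    ∀ (T : Over SK) (g : T ⟶ A) (x : T ⟶ X), lift g x ≫ act.act ≫ φ = (x ≫ φ) * g ^ n := by
  haveI : Subsingleton ↥SK := inferInstanceAs (Subsingleton (PrimeSpectrum K))
  haveI : GeometricallyIntegral X.hom := AVLib.geometricallyIntegral_of_isIntegral X.hom
  haveI := AVLib.isCommMonObj (A := A)
  haveI : JacobsonSpace X.left := LocallyOfFiniteType.jacobsonSpace X.hom
  obtain ⟨z, -, hzc⟩ := nonempty_inter_closedPoints (X := X.left) (Z := Set.univ)
    Set.univ_nonempty isOpen_univ.isLocallyClosed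
  obtain ⟨x₀, -⟩ := AVLib.exists_ratPt hzc
  obtain ⟨ℓ, hfin⟩ := exists_class act hfaith x₀
  let c := pull (orb act x₀).left ℓ
  obtain ⟨P, N, _, _, i, ⟨D, hi, hci, hs, hl, hp, hg, hr⟩⟩ := PicAVLib.exists_dual A
  haveI := AVLib.isCommMonObj (A := N)
  haveI : Mono i := (Over.forget _).mono_of_mono_map (show Mono i.left by infer_instance)
  obtain ⟨φ₀, hφ₀, hf, hsj, hcl⟩ := D.exists_isogeny i hr c hfin
  let m₀ : Pic (A ⊗ X).left := pull act.act.left ℓ
  obtain ⟨g₀, hg₀⟩ := D.surj X (m₀ / pull (snd A X).left (pull (PicAVLib.rigPt A X).left m₀)) (by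
    rw [map_div, ← pull_comp (PicAVLib.rigPt A X).left (snd A X).left, ← Over.comp_left, PicAVLib.rigPt, lift_snd,
      Over.id_left, pull_id, div_self'])
  have hclx : ∀ x : 𝟙_ (Over SK) ⟶ X, D.cl (x ≫ g₀) = pull (orb act x).left ℓ := fun x => by
    rw [D.cl_comp, hg₀, map_div, ← pull_comp _ (snd A X).left, ← Over.comp_left, lift_snd,
      PicAVLib.pull_point_eq_one, div_one, ← pull_comp, ← Over.comp_left]
    rfl
  let ψ' : X ⟶ P := g₀ * (toUnit X ≫ x₀ ≫ g₀)⁻¹
  have hψ'0 : x₀ ≫ ψ' = 1 := by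
    rw [MonObj.comp_mul, GrpObj.comp_inv, ← Category.assoc x₀, toUnit_unique (x₀ ≫ toUnit X) (𝟙 _),
      Category.id_comp, mul_inv_cancel]
  obtain ⟨ψ, hψ⟩ := PicAVLib.exists_factor_of_range i ψ' (PicAVLib.mem_range_of_connected i hr ψ' (x₀.left pt) (by
    rw [← Scheme.Hom.comp_apply, ← Over.comp_left, hψ'0, Hom.one_def, toUnit_unique (toUnit _) (𝟙 _),
      Category.id_comp]))
  have hclψ : ∀ x : 𝟙_ (Over SK) ⟶ X, D.cl (x ≫ ψ ≫ i) = pull (orb act x).left ℓ / c := fun x => by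
    rw [hψ, MonObj.comp_mul, GrpObj.comp_inv, ← Category.assoc x, toUnit_unique (x ≫ toUnit X) (𝟙 _),
      Category.id_comp, map_mul, map_inv, hclx, hclx, div_eq_mul_inv]
  have hpt : ∀ (d : 𝟙_ (Over SK) ⟶ A) (x : 𝟙_ (Over SK) ⟶ X),
      smulPt act d x ≫ ψ = (x ≫ ψ) * (d ≫ φ₀) := fun d x => by
    rw [← cancel_mono i, MonObj.mul_comp, Category.assoc, Category.assoc, Category.assoc]
    refine D.cl_injective ?_
    have hinv := D.invariant i hr (x ≫ ψ) d
    rw [Category.assoc, hclψ x, map_div] at hinv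
    rw [map_mul, hcl, hclψ, hclψ, trR_orb, Over.comp_left, pull_comp, phi_apply, ← hinv, div_mul_div_cancel]
  haveI : Smooth (A ⊗ X).hom := by
    haveI : IsIntegral A.left := GeometricallyIntegral.isIntegral_of_subsingleton A.hom
    haveI : Smooth A.hom := GrpSchLib.smooth_of_isReduced A
    rw [← Over.w (snd A X)]
    haveI : Smooth (snd A X).left := MorphismProperty.pullback_snd (P := @Smooth) A.hom X.hom inferInstance
    infer_instance
  haveI : IsReduced (A ⊗ X).left := ASp.isReduced_of_smooth (A ⊗ X).hom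
  have hmain : act.act ≫ ψ = (snd A X ≫ ψ) * (fst A X ≫ φ₀) := PicAVLib.hom_ext_pnts fun w => by
    have hw : w = lift (w ≫ fst A X) (w ≫ snd A X) := by rw [← comp_lift, lift_fst_snd, Category.comp_id]
    rw [MonObj.comp_mul, ← Category.assoc w, ← Category.assoc w, ← Category.assoc w]
    conv_lhs => rw [hw]
    exact hpt _ _
  obtain ⟨n, β, hn, hβ, hφβ, -⟩ := AbDualLib.exists_dual A N φ₀ (AVLib.dim_eq_of_isFinite_surjective φ₀)
  refine ⟨ψ ≫ β, n, hn, fun T g x => ?_⟩
  rw [← Category.assoc act.act ψ β, hmain]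
  simp only [MonObj.mul_comp, MonObj.comp_mul, Category.assoc, lift_snd_assoc, lift_fst_assoc]
  rw [hφβ, MonObj.comp_pow, Category.comp_id]

end Groth.Agent.EquivMapLib
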